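import Groth.Agent.Glue24.Milnor
import Groth.Agent.Desc59.ModDesc
import Groth.Agent.FlatMor68.FlatFiniteRank
import Groth.Agent.Strict99.Basic
import Groth.Agent.QC70.CohOps

/-! Quasi-coherent modules on a Ferrand pinching: properties are detected on the two pieces. -/

set_option autoImplicit false
set_option backward.isDefEq.respectTransparency.types false
universe u

open CategoryTheory CategoryTheory.Limits AlgebraicGeometry TopologicalSpace TensorProduct
open Groth.Agent.QC70

namespace Groth.Agent.Pinch96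

variable {X Y Y' : Scheme.{u}} (f : X ⟶ Y) (u : Y' ⟶ Y)

/-- The hypothesis of a Milnor square on the affine opens of `Y`. -/
def IsMilnor : Prop :=
  ∀ V ∈ Y.affineOpens,
    RingHom.ker (f.app V).hom ⊓ RingHom.ker (u.app V).hom = ⊥ ∧
    ∀ a ∈ Ideal.map (f.app V).hom (RingHom.ker (u.app V).hom),
      ∃ i ∈ RingHom.ker (u.app V).hom, (f.app V).hom i = a

/-- Abstract form of the Milnor square of an affine open. -/
theorem exists_square {R S T : Type u} [CommRing R] [CommRing S] [CommRing T] [Algebra R S]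
    [Algebra R T] (hS : Function.Surjective (algebraMap R S))
    (h1 : RingHom.ker (algebraMap R T) ⊓ RingHom.ker (algebraMap R S) = ⊥)
    (h2 : ∀ a ∈ Ideal.map (algebraMap R T) (RingHom.ker (algebraMap R S)),
      ∃ i ∈ RingHom.ker (algebraMap R S), algebraMap R T i = a) :
    ∃ (A : Type u) (_ : CommRing A) (_ : Algebra R A) (_ : Algebra S A) (_ : Algebra T A)
      (_ : IsScalarTower R S A) (_ : IsScalarTower R T A), EtMil.IsFibreSquare R S T A := by
  let J := RingHom.ker (algebraMap R S)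
  let q : T →+* T ⧸ J.map (algebraMap R T) := Ideal.Quotient.mk _
  have hle : J ≤ RingHom.ker (q.comp (algebraMap R T)) := fun j hj =>
    RingHom.mem_ker.2 (Ideal.Quotient.eq_zero_iff_mem.2 (Ideal.mem_map_of_mem _ hj))
  let s : S →+* T ⧸ J.map (algebraMap R T) :=
    RingHom.liftOfSurjective (algebraMap R S) hS ⟨q.comp (algebraMap R T), hle⟩
  have hs : s.comp (algebraMap R S) = q.comp (algebraMap R T) :=
    RingHom.liftOfRightInverse_comp _ _ _ _
  letI : Algebra S (T ⧸ J.map (algebraMap R T)) := s.toAlgebra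
  haveI : IsScalarTower R S (T ⧸ J.map (algebraMap R T)) :=
    IsScalarTower.of_algebraMap_eq fun r => (RingHom.congr_fun hs r).symm
  refine ⟨T ⧸ J.map (algebraMap R T), inferInstance, inferInstance, inferInstance, inferInstance,
    inferInstance, inferInstance, Ideal.Quotient.mk_surjective, fun b a hba => ?_⟩
  obtain ⟨r, rfl⟩ := hS b
  have hmem : a - algebraMap R T r ∈ J.map (algebraMap R T) := by
    rw [← IsScalarTower.algebraMap_apply, IsScalarTower.algebraMap_apply R T] at hba
    exact Ideal.Quotient.eq.1 hba.symm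
  obtain ⟨i, hi, hia⟩ := h2 _ hmem
  refine ⟨r + i, ⟨by rw [map_add, RingHom.mem_ker.1 hi, add_zero], by rw [map_add, hia]; ring⟩,
    fun r' hr' => ?_⟩
  have hd : r' - (r + i) ∈ RingHom.ker (algebraMap R T) ⊓ RingHom.ker (algebraMap R S) := by
    refine ⟨?_, ?_⟩
    · rw [SetLike.mem_coe, RingHom.mem_ker, map_sub, hr'.2, map_add, hia]; ring
    · rw [SetLike.mem_coe, RingHom.mem_ker, map_sub, hr'.1, map_add, RingHom.mem_ker.1 hi]; ring
  rw [h1, Ideal.mem_bot] at hd
  exact sub_eq_zero.1 hd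

/-- Transfer of a module property along a Milnor square with hypotheses on two pieces. -/
theorem sections_of_pieces [IsAffineHom f] [IsClosedImmersion u] (hM : IsMilnor f u)
    (G : Y.Modules) [G.IsQuasicoherent]
    (P : ∀ (R : Type u) [CommRing R] (M : Type u) [AddCommGroup M] [Module R M], Prop)
    (hcongr : ∀ (R : Type u) [CommRing R] (M N : Type u) [AddCommGroup M] [Module R M]
      [AddCommGroup N] [Module R N], (M ≃ₗ[R] N) → P R M → P R N)
    (hP : ∀ (R S T A : Type u) [CommRing R] [CommRing S] [CommRing T] [CommRing A] [Algebra R S]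
      [Algebra R T] [Algebra R A] [Algebra S A] [Algebra T A] [IsScalarTower R S A]
      [IsScalarTower R T A] (_ : EtMil.IsFibreSquare R S T A) (L : Type u) [AddCommGroup L]
      [Module R L], P S (S ⊗[R] L) → P T (T ⊗[R] L) → P R L)
    (hu : ∀ W : Y'.Opens, IsAffineOpen W →
      P Γ(Y', W) Γ((Scheme.Modules.pullback u).obj G, W))
    (hf : ∀ W : X.Opens, IsAffineOpen W →
      P Γ(X, W) Γ((Scheme.Modules.pullback f).obj G, W))
    (V : Y.Opens) (hV : IsAffineOpen V) : P Γ(Y, V) Γ(G, V) := by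
  letI : Algebra Γ(Y, V) Γ(Y', u ⁻¹ᵁ V) := (u.appLE V (u ⁻¹ᵁ V) le_rfl).hom.toAlgebra
  letI : Algebra Γ(Y, V) Γ(X, f ⁻¹ᵁ V) := (f.appLE V (f ⁻¹ᵁ V) le_rfl).hom.toAlgebra
  have eu : algebraMap Γ(Y, V) Γ(Y', u ⁻¹ᵁ V) = (u.app V).hom := by
    rw [RingHom.algebraMap_toAlgebra, Scheme.Hom.appLE_eq_app]
  have ef : algebraMap Γ(Y, V) Γ(X, f ⁻¹ᵁ V) = (f.app V).hom := by
    rw [RingHom.algebraMap_toAlgebra, Scheme.Hom.appLE_eq_app]
  have hS : Function.Surjective (algebraMap Γ(Y, V) Γ(Y', u ⁻¹ᵁ V)) := by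
    rw [eu]; exact u.app_surjective V hV
  obtain ⟨A, _, _, _, _, _, _, hsq⟩ := exists_square (T := Γ(X, f ⁻¹ᵁ V)) hS
    (by rw [eu, ef]; exact (hM V hV).1) (by rw [eu, ef]; exact (hM V hV).2)
  exact hP Γ(Y, V) Γ(Y', u ⁻¹ᵁ V) Γ(X, f ⁻¹ᵁ V) A hsq Γ(G, V)
    (hcongr _ _ _ (QCPull72.sectionsPullbackEquiv u G hV (hV.preimage u) le_rfl) (hu _ (hV.preimage u)))
    (hcongr _ _ _ (QCPull72.sectionsPullbackEquiv f G hV (hV.preimage f) le_rfl) (hf _ (hV.preimage f)))

/-- Flat sections on the affine opens give flatness. -/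
theorem isFlat_of_flat_sections {Z : Scheme.{u}} (F : Z.Modules) [F.IsQuasicoherent]
    (h : ∀ U : Z.Opens, IsAffineOpen U → Module.Flat Γ(Z, U) Γ(F, U)) : FlatMod.IsFlat F := by
  intro x
  obtain ⟨U, hU, hx, -⟩ := exists_isAffineOpen_mem_and_subset (x := x) (U := ⊤) trivial
  letI := stalkModule F hx
  letI : Algebra Γ(Z, U) (Z.presheaf.stalk x) := (Z.presheaf.germ U x hx).hom.toAlgebra
  haveI : IsScalarTower Γ(Z, U) (Z.presheaf.stalk x) (F.presheaf.stalk x) :=
    IsScalarTower.of_algebraMap_smul fun r s => rfl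
  haveI : IsLocalization.AtPrime (Z.presheaf.stalk x) (hU.primeIdealOf ⟨x, hx⟩).asIdeal :=
    hU.isLocalization_stalk ⟨x, hx⟩
  haveI : IsLocalizedModule (hU.primeIdealOf ⟨x, hx⟩).asIdeal.primeCompl (germLinear F hx) :=
    isLocalizedModule_germ (isLocAt_of_isQuasicoherent F hU) hU hx
  haveI := h U hU
  exact Module.Flat.of_isLocalizedModule (Z.presheaf.stalk x)
    (hU.primeIdealOf ⟨x, hx⟩).asIdeal.primeCompl (germLinear F hx)

/-- A module with no sections on affine opens is zero. -/
theorem isZero_of_affine_subsingleton {Z : Scheme.{u}} (F : Z.Modules)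
    (h : ∀ U : Z.Opens, IsAffineOpen U → Subsingleton Γ(F, U)) : IsZero F := by
  refine isZero_of_sections_subsingleton fun W => subsingleton_of_forall_eq 0 fun s => ?_
  refine section_ext F _ _ fun p hp => ?_
  obtain ⟨U, hU, hpU, hUW⟩ := exists_isAffineOpen_mem_and_subset (x := p) (U := W) hp
  exact ⟨U, hUW, hpU, (h U hU).elim _ _⟩

theorem isFlat_pullback {Z : Scheme.{u}} (g : Z ⟶ Y) (G : Y.Modules) [G.IsQuasicoherent]
    (hG : FlatMod.IsFlat G) : FlatMod.IsFlat ((Scheme.Modules.pullback g).obj G) := by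
  have := QCPull72.isQuasicoherent_pullback g G
  intro z
  obtain ⟨V, hV, hgz, -⟩ := exists_isAffineOpen_mem_and_subset (x := g z) (U := ⊤) trivial
  obtain ⟨W, hW, hzW, hWV⟩ := exists_isAffineOpen_mem_and_subset (x := z) (U := g ⁻¹ᵁ V) hgz
  letI := (g.appLE V W hWV).hom.toAlgebra
  haveI := FlatMor68.FlatFiniteRank.flat_sections_self G hG hV
  haveI : Module.Flat Γ(Z, W) Γ((Scheme.Modules.pullback g).obj G, W) :=
    Module.Flat.of_linearEquiv (QCPull72.sectionsPullbackEquiv g G hV hW hWV)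
  letI := stalkModule ((Scheme.Modules.pullback g).obj G) hzW
  letI : Algebra Γ(Z, W) (Z.presheaf.stalk z) := (Z.presheaf.germ W z hzW).hom.toAlgebra
  haveI : IsScalarTower Γ(Z, W) (Z.presheaf.stalk z)
      (((Scheme.Modules.pullback g).obj G).presheaf.stalk z) :=
    IsScalarTower.of_algebraMap_smul fun r s => rfl
  haveI : IsLocalization.AtPrime (Z.presheaf.stalk z) (hW.primeIdealOf ⟨z, hzW⟩).asIdeal :=
    hW.isLocalization_stalk ⟨z, hzW⟩
  haveI : IsLocalizedModule (hW.primeIdealOf ⟨z, hzW⟩).asIdeal.primeCompl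
      (germLinear ((Scheme.Modules.pullback g).obj G) hzW) :=
    isLocalizedModule_germ (isLocAt_of_isQuasicoherent _ hW) hW hzW
  exact Module.Flat.of_isLocalizedModule (Z.presheaf.stalk z)
    (hW.primeIdealOf ⟨z, hzW⟩).asIdeal.primeCompl (germLinear _ hzW)

variable [IsAffineHom f] [IsClosedImmersion u] (hM : IsMilnor f u)
  (G : Y.Modules) [G.IsQuasicoherent]

include hM

theorem isZero_of_pair (h1 : IsZero ((Scheme.Modules.pullback u).obj G))
    (h2 : IsZero ((Scheme.Modules.pullback f).obj G)) : IsZero G := by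
  refine isZero_of_affine_subsingleton G fun V hV => ?_
  have key : ∀ {Z : Scheme.{u}} (F : Z.Modules), IsZero F → ∀ W : Z.Opens, Subsingleton Γ(F, W) := by
    intro Z F hF W
    refine subsingleton_of_forall_eq 0 fun s => ?_
    have := congrArg (fun φ : F ⟶ F => φ.app W s) ((IsZero.iff_id_eq_zero F).1 hF)
    simpa using this
  exact sections_of_pieces f u hM G (fun _ _ M _ _ => Subsingleton M)
    (fun _ _ _ _ _ _ _ _ e h => e.symm.toEquiv.subsingleton)
    (fun _ _ _ _ _ _ _ _ _ _ _ _ _ _ _ hsq _ _ _ h h' =>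
      Glue24.Milnor.subsingleton_of_subsingleton hsq h h')
    (fun W _ => key _ h1 W) (fun W _ => key _ h2 W) V hV

theorem isFiniteType_iff : SheafOfModules.IsFiniteType G ↔
    SheafOfModules.IsFiniteType ((Scheme.Modules.pullback u).obj G) ∧
      SheafOfModules.IsFiniteType ((Scheme.Modules.pullback f).obj G) := by
  refine ⟨fun _ => ⟨QCPull72.isFiniteType_pullback u G, QCPull72.isFiniteType_pullback f G⟩, ?_⟩
  rintro ⟨h1, h2⟩
  have := QCPull72.isQuasicoherent_pullback u G
  have := QCPull72.isQuasicoherent_pullback f G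
  exact isFiniteType_of_finite_sections G (fun V : Y.affineOpens => V.1) (iSup_affineOpens_eq_top Y)
    (fun V => V.2) fun V => sections_of_pieces f u hM G (fun R _ M _ _ => Module.Finite R M)
      (fun _ _ _ _ _ _ _ _ e h => @Module.Finite.equiv _ _ _ _ _ _ _ _ h e)
      (fun _ _ _ _ _ _ _ _ _ _ _ _ _ _ _ hsq _ _ _ h h' => @Glue24.Milnor.finite _ _ _ _ _ _ _ _ _ _ _ _ _ _ _ _ _ _ hsq h h')
      (fun W hW => finite_sections_of_isFiniteType _ hW)
      (fun W hW => finite_sections_of_isFiniteType _ hW) V.1 V.2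

theorem isFlat_iff : FlatMod.IsFlat G ↔
    FlatMod.IsFlat ((Scheme.Modules.pullback u).obj G) ∧
      FlatMod.IsFlat ((Scheme.Modules.pullback f).obj G) := by
  refine ⟨fun h => ⟨isFlat_pullback u G h, isFlat_pullback f G h⟩, ?_⟩
  rintro ⟨h1, h2⟩
  have := QCPull72.isQuasicoherent_pullback u G
  have := QCPull72.isQuasicoherent_pullback f G
  exact isFlat_of_flat_sections G fun V hV => sections_of_pieces f u hM G
    (fun R _ M _ _ => Module.Flat R M)
    (fun _ _ _ _ _ _ _ _ e h => @Module.Flat.of_linearEquiv _ _ _ _ _ _ _ _ h e.symm)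
    (fun _ _ _ _ _ _ _ _ _ _ _ _ _ _ _ hsq _ _ _ h h' => @Glue24.Milnor.flat _ _ _ _ _ _ _ _ _ _ _ _ _ _ _ _ _ _ hsq h h')
    (fun W hW => FlatMor68.FlatFiniteRank.flat_sections_self _ h1 hW)
    (fun W hW => FlatMor68.FlatFiniteRank.flat_sections_self _ h2 hW) V hV

theorem isFinLocFree_iff : FlatMod.IsFinLocFree G ↔
    FlatMod.IsFinLocFree ((Scheme.Modules.pullback u).obj G) ∧
      FlatMod.IsFinLocFree ((Scheme.Modules.pullback f).obj G) := by
  refine ⟨fun h => ⟨Strict99.isFinLocFree_pullback u h, Strict99.isFinLocFree_pullback f h⟩, ?_⟩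
  rintro ⟨h1, h2⟩
  refine FlatMor68.LocFree.isFinLocFree_of_projective_sections G fun y => ?_
  obtain ⟨V, hV, hy, -⟩ := exists_isAffineOpen_mem_and_subset (x := y) (U := ⊤) trivial
  have h := sections_of_pieces f u hM G
    (fun R _ M _ _ => Module.Flat R M ∧ Module.FinitePresentation R M)
    (fun _ _ _ _ _ _ _ _ e h => by
      have := h.1
      have := h.2
      exact ⟨Module.Flat.of_linearEquiv e.symm, Module.FinitePresentation.of_equiv e⟩)
    (fun _ _ _ _ _ _ _ _ _ _ _ _ _ _ _ hsq L _ _ h h' => by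
      have := h.1
      have := h.2
      have := h'.1
      have := h'.2
      exact ⟨Glue24.Milnor.flat hsq, Glue24.Milnor.finitePresentation hsq⟩)
    (fun W hW => ⟨by
        have := Props58.LocFree.isFP_of_isFinLocFree h1
        have := Props58.LocFree.finitePresentation_sections ((Scheme.Modules.pullback u).obj G) hW
        have := Props58.LocFree.projective_sections h1 hW
        infer_instance, by
        have := Props58.LocFree.isFP_of_isFinLocFree h1
        exact Props58.LocFree.finitePresentation_sections _ hW⟩)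
    (fun W hW => ⟨by
        have := Props58.LocFree.projective_sections h2 hW
        infer_instance, by
        have := Props58.LocFree.isFP_of_isFinLocFree h2
        exact Props58.LocFree.finitePresentation_sections _ hW⟩) V hV
  have := h.1
  have := h.2
  exact ⟨V, hV, hy, Module.Flat.projective_of_finitePresentation, inferInstance⟩

end Groth.Agent.Pinch96
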